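import Groth.Agent.NormUniv.Basic
import Groth.Prelude.Def_Curv2

/-!
The normalization of an integral scheme: sections over affines are integral extensions with the
same fraction field; dominant-on-components morphisms are injective on stalks.
-/

set_option autoImplicit false
set_option backward.isDefEq.respectTransparency.types false

universe u

open CategoryTheory AlgebraicGeometry TopologicalSpace

namespace Groth.Agent.NormUniv

variable (X : Scheme.{u}) [IsIntegral X] [QuasiCompact (X.fromSpecStalk (genericPoint X))]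
  [QuasiSeparated (X.fromSpecStalk (genericPoint X))]

theorem normalizationι_frac (U : X.Opens) (hU : IsAffineOpen U) (hne : (U : Set X).Nonempty) :
    Function.Injective ((Curv2.normalizationι X).app U) ∧
      ∀ x : Γ(Curv2.normalization X, Curv2.normalizationι X ⁻¹ᵁ U), ∃ a b : Γ(X, U), b ≠ 0 ∧
        (Curv2.normalizationι X).app U b * x = (Curv2.normalizationι X).app U a := by
  haveI : Nonempty U := hne.to_subtype
  let f := X.fromSpecStalk (genericPoint X)
  letI := (f.app U).hom.toAlgebra
  obtain ⟨x₀, hx₀⟩ := hne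
  have hgen : genericPoint X ∈ U := (genericPoint_specializes x₀).mem_open U.2 hx₀
  have htop : f ⁻¹ᵁ U = ⊤ := by
    refine top_le_iff.mp fun z _ => ?_
    have hz : f z ⤳ genericPoint X := X.range_fromSpecStalk.le ⟨z, rfl⟩
    exact hz.mem_open U.2 hgen
  let ei := (Spec X.functionField).presheaf.mapIso (eqToIso htop.symm).op ≪≫
    Scheme.ΓSpecIso X.functionField
  have hei : f.app U ≫ ei.hom = X.presheaf.germ U (genericPoint X) hgen := by
    rw [Scheme.fromSpecStalk_app hgen]
    simp only [ei, Category.assoc, Iso.trans_hom, Functor.mapIso_hom]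
    erw [← Functor.map_comp_assoc]
    simp
  let e : Γ(Spec X.functionField, f ⁻¹ᵁ U) ≃ₐ[Γ(X, U)] X.functionField :=
    AlgEquiv.ofRingEquiv (f := ei.commRingCatIsoToRingEquiv) fun r => congr($(hei).hom r)
  have := functionField_isFractionRing_of_isAffineOpen X U hU
  have hinjL : Function.Injective
      (algebraMap Γ(X, U) Γ(Spec X.functionField, f ⁻¹ᵁ U)) := fun a b h =>
    IsFractionRing.injective Γ(X, U) X.functionField (by
      rw [← e.commutes, ← e.commutes, h])
  let i := (f.normalizationObjIso hU).commRingCatIsoToRingEquiv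
  have happ : ∀ r, i ((Curv2.normalizationι X).app U r) = algebraMap Γ(X, U) _ r := fun r => by
    have h := congr($(f.fromNormalization_app hU).hom r)
    refine (congrArg i h).trans ?_
    exact i.apply_symm_apply _
  refine ⟨fun a b h => ?_, fun x => ?_⟩
  · have h' := congrArg (fun z => (i z).1) h
    simp only [happ] at h'
    exact hinjL h'
  · obtain ⟨a, b, hb, hab⟩ := IsFractionRing.div_surjective (A := Γ(X, U)) (e (i x).1)
    refine ⟨a, b, nonZeroDivisors.ne_zero hb, i.injective (Subtype.ext (e.injective ?_))⟩
    erw [map_mul i, happ, happ]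
    change e (algebraMap Γ(X, U) _ b * (i x).1) = e (algebraMap Γ(X, U) _ a)
    rw [map_mul, e.commutes, e.commutes, ← hab, mul_div_cancel₀]
    exact fun h => nonZeroDivisors.ne_zero hb
      (IsFractionRing.injective Γ(X, U) X.functionField (h.trans (map_zero _).symm))

omit [QuasiCompact (X.fromSpecStalk (genericPoint X))]
  [QuasiSeparated (X.fromSpecStalk (genericPoint X))] in
/-- A morphism from a normal scheme sending generic points to the generic point is injective on
stalks. -/
theorem good_of_generic {Z : Scheme.{u}} (g : Z ⟶ X) (hZ : Pi1.IsNormalScheme Z)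
    (hdom : ∀ z, ∃ z₀ : Z, z₀ ⤳ z ∧ g z₀ = genericPoint X) : Good g := by
  refine ⟨hZ, fun z => (injective_iff_map_eq_zero _).mpr fun a ha => ?_⟩
  obtain ⟨z₀, hz, hg⟩ := hdom z
  obtain ⟨U, hgU, s, rfl⟩ := X.presheaf.exists_germ_eq a
  haveI : Nonempty U := ⟨⟨g z, hgU⟩⟩
  have hz₀ : g z₀ ∈ U := (hz.map g.continuous).mem_open U.2 hgU
  have h0 : g.stalkMap z₀ (X.presheaf.germ U (g z₀) hz₀ s) = 0 := by
    rw [Scheme.Hom.germ_stalkMap_apply]
    rw [Scheme.Hom.germ_stalkMap_apply] at ha
    have := congrArg (Z.presheaf.stalkSpecializes hz) ha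
    rwa [map_zero, TopCat.Presheaf.germ_stalkSpecializes_apply] at this
  have hF : IsField (X.presheaf.stalk (g z₀)) := by
    rw [hg]; exact Field.toIsField X.functionField
  letI := hF.toField
  have := (hZ z₀).1
  have h1 : X.presheaf.germ U (g z₀) hz₀ s = 0 :=
    (g.stalkMap z₀).hom.injective (h0.trans (map_zero _).symm)
  have hs : s = 0 := germ_injective_of_isIntegral X (g z₀) hz₀ (h1.trans (map_zero _).symm)
  rw [hs, map_zero]

end Groth.Agent.NormUniv
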