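import Mathlib.AlgebraicGeometry.Normalization
import Mathlib.AlgebraicGeometry.FunctionField
import Mathlib.AlgebraicGeometry.Morphisms.Integral
import Mathlib.RingTheory.Polynomial.ScaleRoots
import Mathlib.RingTheory.IntegralClosure.IntegrallyClosed
import Groth.Prelude.Def_Pi1

/-!
Factoring through an integral birational morphism: elements of an integral extension with the
same fraction field act on sections of a normal scheme.
-/

set_option autoImplicit false
set_option backward.isDefEq.respectTransparency.types false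

universe u

open CategoryTheory AlgebraicGeometry TopologicalSpace

namespace Groth.Agent.NormUniv

/-- A quotient of two elements which is integral in `A'` exists in every normal domain. -/
theorem exists_mul_eq {A A' O : Type u} [CommRing A] [CommRing A'] [CommRing O] [IsDomain O]
    [IsIntegrallyClosed O] [Algebra A A'] (hinj : Function.Injective (algebraMap A A'))
    (φ : A →+* O) (hφ : Function.Injective φ) {x : A'} (hx : IsIntegral A x) {a b : A} (hb : b ≠ 0)
    (h : algebraMap A A' b * x = algebraMap A A' a) : ∃ c : O, φ b * c = φ a := by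
  obtain ⟨P, hP, hP0⟩ := hx
  have h1 : algebraMap A A' ((P.scaleRoots b).eval₂ (RingHom.id A) a) = 0 := by
    rw [Polynomial.hom_eval₂, RingHom.comp_id, ← h, Polynomial.scaleRoots_eval₂_mul, hP0, mul_zero]
  have h2 : (P.scaleRoots b).eval₂ (RingHom.id A) a = 0 := hinj (h1.trans (map_zero _).symm)
  let K := FractionRing O
  let θ : A →+* K := (algebraMap O K).comp φ
  have hθ : Function.Injective θ := (IsFractionRing.injective O K).comp hφ
  have hb0 : θ b ≠ 0 := fun hh => hb (hθ (hh.trans (map_zero _).symm))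
  have h3 : (P.scaleRoots b).eval₂ θ (θ a) = 0 := by
    have := congrArg θ h2
    rwa [Polynomial.hom_eval₂, RingHom.comp_id, map_zero] at this
  have h4 : P.eval₂ θ (θ a / θ b) = 0 := by
    have h5 := Polynomial.scaleRoots_eval₂_mul (p := P) θ (θ a / θ b) b
    rw [mul_div_cancel₀ _ hb0, h3] at h5
    exact (mul_eq_zero.mp h5.symm).resolve_left (pow_ne_zero _ hb0)
  have hint : IsIntegral O (θ a / θ b) := ⟨P.map φ, hP.map φ, by rwa [Polynomial.eval₂_map]⟩
  obtain ⟨c, hc⟩ := IsIntegrallyClosed.isIntegral_iff.mp hint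
  refine ⟨c, IsFractionRing.injective O K ?_⟩
  rw [map_mul, hc]
  exact mul_div_cancel₀ _ hb0

variable {Z : Scheme.{u}}

theorem eq_of_mul_eq {V : Z.Opens} (hdom : ∀ z ∈ V, IsDomain (Z.presheaf.stalk z)) {β s t : Γ(Z, V)}
    (hβ : ∀ z (hz : z ∈ V), Z.presheaf.germ V z hz β ≠ 0) (h : β * s = β * t) : s = t := by
  refine TopCat.Presheaf.section_ext Z.sheaf _ _ _ fun z hz => ?_
  have := hdom z hz
  show Z.presheaf.germ V z hz s = Z.presheaf.germ V z hz t
  have h' := congrArg (Z.presheaf.germ V z hz) h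
  rw [map_mul, map_mul] at h'
  exact mul_left_cancel₀ (hβ z hz) h'

theorem exists_section_mul_eq {V : Z.Opens} (hdom : ∀ z ∈ V, IsDomain (Z.presheaf.stalk z))
    {α β : Γ(Z, V)} (hβ : ∀ z (hz : z ∈ V), Z.presheaf.germ V z hz β ≠ 0)
    (hloc : ∀ z (hz : z ∈ V), ∃ c, Z.presheaf.germ V z hz β * c = Z.presheaf.germ V z hz α) :
    ∃ s : Γ(Z, V), β * s = α := by
  have hspread : ∀ y : V, ∃ (W : Z.Opens) (_ : y.1 ∈ W) (hW : W ≤ V) (c : Γ(Z, W)),
      Z.presheaf.map (homOfLE hW).op β * c = Z.presheaf.map (homOfLE hW).op α := by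
    rintro ⟨y, hy⟩
    obtain ⟨c, hc⟩ := hloc y hy
    obtain ⟨W, hW, c, rfl⟩ := Z.presheaf.exists_germ_eq c
    have e : Z.presheaf.germ (V ⊓ W) y ⟨hy, hW⟩
          (Z.presheaf.map (homOfLE inf_le_left).op β * Z.presheaf.map (homOfLE inf_le_right).op c) =
        Z.presheaf.germ (V ⊓ W) y ⟨hy, hW⟩ (Z.presheaf.map (homOfLE inf_le_left).op α) := by
      rw [map_mul]
      erw [TopCat.Presheaf.germ_res_apply, TopCat.Presheaf.germ_res_apply,
        TopCat.Presheaf.germ_res_apply]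
      exact hc
    obtain ⟨T, hyT, i₁, i₂, hT⟩ := Z.presheaf.germ_eq y _ _ _ _ e
    refine ⟨T, hyT, le_trans i₁.le inf_le_left,
      Z.presheaf.map i₁.op (Z.presheaf.map (homOfLE inf_le_right).op c), ?_⟩
    rw [Subsingleton.elim i₂ i₁, map_mul] at hT
    simp only [← CommRingCat.comp_apply, ← Functor.map_comp, ← op_comp] at hT ⊢
    exact hT
  choose W hyW hWV c hc using hspread
  have hcompat : TopCat.Presheaf.IsCompatible Z.presheaf W c := by
    intro i j
    refine TopCat.Presheaf.section_ext Z.sheaf _ _ _ fun z hz => ?_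
    have := hdom z (hWV i hz.1)
    erw [TopCat.Presheaf.germ_res_apply, TopCat.Presheaf.germ_res_apply]
    show Z.presheaf.germ (W i) z hz.1 (c i) = Z.presheaf.germ (W j) z hz.2 (c j)
    refine mul_left_cancel₀ (hβ z (hWV i hz.1)) ?_
    have ei := congrArg (Z.presheaf.germ (W i) z hz.1) (hc i)
    have ej := congrArg (Z.presheaf.germ (W j) z hz.2) (hc j)
    rw [map_mul, TopCat.Presheaf.germ_res_apply, TopCat.Presheaf.germ_res_apply] at ei ej
    exact ei.trans ej.symm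
  obtain ⟨s, hs, -⟩ := TopCat.Sheaf.existsUnique_gluing' Z.sheaf W V (fun i => homOfLE (hWV i))
    (fun y hy => Opens.mem_iSup.mpr ⟨⟨y, hy⟩, hyW _⟩) c hcompat
  let s' : Γ(Z, V) := s
  refine ⟨s', TopCat.Presheaf.section_ext Z.sheaf _ _ _ fun y hy => ?_⟩
  have hh := congrArg (Z.presheaf.germ (W ⟨y, hy⟩) y (hyW ⟨y, hy⟩)) (hc ⟨y, hy⟩)
  rw [← hs ⟨y, hy⟩] at hh
  change Z.presheaf.germ (W ⟨y, hy⟩) y (hyW ⟨y, hy⟩) (Z.presheaf.map (homOfLE (hWV ⟨y, hy⟩)).op β *
    Z.presheaf.map (homOfLE (hWV ⟨y, hy⟩)).op s') = _ at hh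
  rw [map_mul] at hh
  erw [TopCat.Presheaf.germ_res_apply, TopCat.Presheaf.germ_res_apply,
    TopCat.Presheaf.germ_res_apply] at hh
  show Z.presheaf.germ V y hy (β * s') = Z.presheaf.germ V y hy α
  rw [map_mul]
  exact hh

/-- A map from `A` to sections with normal domain stalks, injective into every stalk, extends
uniquely to an integral extension with the same fractions. -/
theorem existsUnique_extension {A A' : Type u} [CommRing A] [IsDomain A] [CommRing A'] [Algebra A A']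
    (hinj : Function.Injective (algebraMap A A')) (hint : ∀ x : A', IsIntegral A x)
    (hfrac : ∀ x : A', ∃ a b : A, b ≠ 0 ∧ algebraMap A A' b * x = algebraMap A A' a)
    {V : Z.Opens} (hdom : ∀ z ∈ V, IsDomain (Z.presheaf.stalk z))
    (hnorm : ∀ z ∈ V, IsIntegrallyClosed (Z.presheaf.stalk z))
    (φ : A →+* Γ(Z, V))
    (hφ : ∀ z (hz : z ∈ V), Function.Injective ((Z.presheaf.germ V z hz).hom.comp φ)) :
    ∃! ψ : A' →+* Γ(Z, V), ψ.comp (algebraMap A A') = φ := by
  choose a b hb hab using hfrac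
  have hne : ∀ {r : A}, r ≠ 0 → ∀ z (hz : z ∈ V), Z.presheaf.germ V z hz (φ r) ≠ 0 :=
    fun {r} hr z hz h => hr (hφ z hz (h.trans (map_zero _).symm))
  have hex : ∀ x, ∃ s, φ (b x) * s = φ (a x) := fun x =>
    exists_section_mul_eq hdom (hne (hb x)) fun z hz =>
      have := hdom z hz
      have := hnorm z hz
      exists_mul_eq hinj ((Z.presheaf.germ V z hz).hom.comp φ) (hφ z hz) (hint x) (hb x) (hab x)
  choose ψ hψ using hex
  have key : ∀ x a' b', b' ≠ 0 → algebraMap A A' b' * x = algebraMap A A' a' →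
      φ b' * ψ x = φ a' := by
    intro x a' b' hb' h
    have he : b x * a' = b' * a x := hinj (by rw [map_mul, map_mul, ← h, ← hab x]; ring)
    refine eq_of_mul_eq hdom (hne (hb x)) ?_
    rw [← map_mul φ (b x) a', he, map_mul, ← hψ x]; ring
  have huniq : ∀ x s a' b', b' ≠ 0 → algebraMap A A' b' * x = algebraMap A A' a' →
      φ b' * s = φ a' → s = ψ x := fun x s a' b' hb' h hs =>
    eq_of_mul_eq hdom (hne hb') (hs.trans (key x a' b' hb' h).symm)
  have hA : ∀ r, ψ (algebraMap A A' r) = φ r := fun r =>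
    (huniq _ (φ r) r 1 one_ne_zero (by rw [map_one, one_mul]) (by rw [map_one, one_mul])).symm
  let ψh : A' →+* Γ(Z, V) :=
    { toFun := ψ
      map_one' := by rw [← map_one (algebraMap A A'), hA, map_one]
      map_zero' := by rw [← map_zero (algebraMap A A'), hA, map_zero]
      map_mul' := fun x y => (huniq (x * y) _ (a x * a y) (b x * b y) (mul_ne_zero (hb x) (hb y))
        (by rw [map_mul, map_mul, ← hab x, ← hab y]; ring)
        (by rw [map_mul, map_mul, ← hψ x, ← hψ y]; ring)).symm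
      map_add' := fun x y => (huniq (x + y) _ (a x * b y + a y * b x) (b x * b y)
        (mul_ne_zero (hb x) (hb y))
        (by simp only [map_mul, map_add, ← hab x, ← hab y]; ring)
        (by simp only [map_mul, map_add, ← hψ x, ← hψ y]; ring)).symm }
  refine ⟨ψh, RingHom.ext hA, fun ψ' hψ' => RingHom.ext fun x => ?_⟩
  refine huniq x (ψ' x) (a x) (b x) (hb x) (hab x) ?_
  rw [← hψ', RingHom.comp_apply, RingHom.comp_apply, ← map_mul, hab x]

variable {X N : Scheme.{u}} [IsIntegral X] (ν : N ⟶ X) [IsIntegralHom ν]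
  (hfrac : ∀ (U : X.Opens), IsAffineOpen U → (U : Set X).Nonempty →
    Function.Injective (ν.app U) ∧
      ∀ x : Γ(N, ν ⁻¹ᵁ U), ∃ a b : Γ(X, U), b ≠ 0 ∧ ν.app U b * x = ν.app U a)

/-- The hypothesis on a morphism under which it factors. -/
def Good (g : Z ⟶ X) : Prop :=
  Pi1.IsNormalScheme Z ∧ ∀ z : Z, Function.Injective (g.stalkMap z)

include hfrac

theorem existsUnique_app {g : Z ⟶ X} (hg : Good g) {U : X.Opens} (hU : IsAffineOpen U)
    {V : Z.Opens} (hne : (U : Set X).Nonempty) (hle : V ≤ g ⁻¹ᵁ U) :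
    ∃! ψ : Γ(N, ν ⁻¹ᵁ U) ⟶ Γ(Z, V), ν.app U ≫ ψ = g.appLE U V hle := by
  haveI : Nonempty U := hne.to_subtype
  letI := (ν.app U).hom.toAlgebra
  obtain ⟨hinj, hfr⟩ := hfrac U hU hne
  have := existsUnique_extension (A := Γ(X, U)) (A' := Γ(N, ν ⁻¹ᵁ U)) hinj
    (fun x => ν.isIntegral_app U hU x) hfr (V := V) (fun z _ => (hg.1 z).1) (fun z _ => (hg.1 z).2)
    (g.appLE U V hle).hom (fun z hz => ?_)
  · obtain ⟨ψ, hψ, huniq⟩ := this
    exact ⟨CommRingCat.ofHom ψ, CommRingCat.hom_ext hψ,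
      fun ψ' h => CommRingCat.hom_ext (huniq ψ'.hom congr(($h).hom))⟩
  · have e : g.appLE U V hle ≫ Z.presheaf.germ V z hz =
        X.presheaf.germ U (g z) (hle hz) ≫ g.stalkMap z := by
      rw [Scheme.Hom.appLE, Category.assoc, TopCat.Presheaf.germ_res, Scheme.Hom.germ_stalkMap]
    rw [← CommRingCat.hom_comp, e, CommRingCat.hom_comp]
    exact (hg.2 z).comp (germ_injective_of_isIntegral X (g z) (hle hz))

theorem hom_ext {g : Z ⟶ X} (hg : Good g) {h₁ h₂ : Z ⟶ N} (e₁ : h₁ ≫ ν = g) (e₂ : h₂ ≫ ν = g) :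
    h₁ = h₂ := by
  have hcov : ∀ z : Z, ∃ V : Z.Opens, z ∈ V ∧ V.ι ≫ h₁ = V.ι ≫ h₂ := by
    intro z
    obtain ⟨U, hU, hgU, -⟩ := exists_isAffineOpen_mem_and_subset (x := g z) (U := ⊤) trivial
    obtain ⟨V, hV, hzV, hVU⟩ := exists_isAffineOpen_mem_and_subset (x := z) (U := g ⁻¹ᵁ U) hgU
    replace hVU : V ≤ g ⁻¹ᵁ U := hVU
    have l₁ : V ≤ h₁ ⁻¹ᵁ ν ⁻¹ᵁ U := by rwa [← Scheme.Hom.comp_preimage, e₁]
    have l₂ : V ≤ h₂ ⁻¹ᵁ ν ⁻¹ᵁ U := by rwa [← Scheme.Hom.comp_preimage, e₂]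
    have hne : (U : Set X).Nonempty := ⟨g z, hgU⟩
    have a₁ : ν.app U ≫ h₁.appLE (ν ⁻¹ᵁ U) V l₁ = g.appLE U V hVU := by
      rw [Scheme.Hom.app_eq_appLE, Scheme.Hom.appLE_comp_appLE]; simp only [e₁]
    have a₂ : ν.app U ≫ h₂.appLE (ν ⁻¹ᵁ U) V l₂ = g.appLE U V hVU := by
      rw [Scheme.Hom.app_eq_appLE, Scheme.Hom.appLE_comp_appLE]; simp only [e₂]
    have e := (existsUnique_app ν hfrac hg hU hne hVU).unique a₁ a₂
    refine ⟨V, hzV, ?_⟩
    rw [← hV.isoSpec_hom_fromSpec, Category.assoc, Category.assoc,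
      ← IsAffineOpen.SpecMap_appLE_fromSpec h₁ (hU.preimage ν) hV l₁,
      ← IsAffineOpen.SpecMap_appLE_fromSpec h₂ (hU.preimage ν) hV l₂, e]
  choose V hzV hV using hcov
  exact Scheme.Cover.hom_ext (Z.openCoverOfIsOpenCover V
    (top_le_iff.mp fun z _ => Opens.mem_iSup.mpr ⟨z, hzV z⟩)) _ _ hV

theorem existsUnique_fac {g : Z ⟶ X} (hg : Good g) : ∃! h : Z ⟶ N, h ≫ ν = g := by
  have hloc : ∀ z : Z, ∃ (V : Z.Opens) (h : V.toScheme ⟶ N), z ∈ V ∧ h ≫ ν = V.ι ≫ g := by
    intro z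
    obtain ⟨U, hU, hgU, -⟩ := exists_isAffineOpen_mem_and_subset (x := g z) (U := ⊤) trivial
    obtain ⟨V, hV, hzV, hVU⟩ := exists_isAffineOpen_mem_and_subset (x := z) (U := g ⁻¹ᵁ U) hgU
    replace hVU : V ≤ g ⁻¹ᵁ U := hVU
    obtain ⟨ψ, hψ, -⟩ := existsUnique_app ν hfrac hg hU ⟨g z, hgU⟩ hVU
    refine ⟨V, hV.isoSpec.hom ≫ Spec.map ψ ≫ (hU.preimage ν).fromSpec, hzV, ?_⟩
    rw [Category.assoc, Category.assoc, ← IsAffineOpen.SpecMap_appLE_fromSpec ν hU (hU.preimage ν)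
      le_rfl, ← Spec.map_comp_assoc, ← Scheme.Hom.app_eq_appLE, hψ,
      IsAffineOpen.SpecMap_appLE_fromSpec g hU hV hVU, hV.isoSpec_hom_fromSpec_assoc]
  choose V h hzV hh using hloc
  let 𝒰 := Z.openCoverOfIsOpenCover V (top_le_iff.mp fun z _ => Opens.mem_iSup.mpr ⟨z, hzV z⟩)
  have hgood : ∀ {T : Scheme.{u}} (j : T ⟶ Z) [IsOpenImmersion j], Good (j ≫ g) := by
    intro T j _
    refine ⟨fun t => ?_, fun t => ?_⟩
    · have e := (asIso (j.stalkMap t)).commRingCatIsoToRingEquiv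
      have := (hg.1 (j t)).1
      have := (hg.1 (j t)).2
      exact ⟨e.symm.toMulEquiv.isDomain _, IsIntegrallyClosed.of_equiv e⟩
    · rw [Scheme.Hom.stalkMap_comp]
      exact ((ConcreteCategory.bijective_of_isIso (j.stalkMap t)).1).comp (hg.2 (j t))
  refine ⟨𝒰.glueMorphisms h fun x y => ?_, ?_, fun h' he => ?_⟩
  · refine hom_ext ν hfrac (hgood (Limits.pullback.fst (𝒰.f x) (𝒰.f y) ≫ 𝒰.f x)) ?_ ?_
    · rw [Category.assoc, Category.assoc]; exact congrArg _ (hh x)
    · rw [Category.assoc, Limits.pullback.condition, Category.assoc]; exact congrArg _ (hh y)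
  · refine Scheme.Cover.hom_ext 𝒰 _ _ fun x => ?_
    rw [Scheme.Cover.ι_glueMorphisms_assoc]
    exact hh x
  · refine hom_ext ν hfrac hg he ?_
    refine Scheme.Cover.hom_ext 𝒰 _ _ fun x => ?_
    rw [Scheme.Cover.ι_glueMorphisms_assoc]
    exact hh x

end Groth.Agent.NormUniv
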